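import Mathlib
import Groth.Prelude.Def_HopfRep
import Groth.Prelude.Def_ComodSub
import Groth.Agent.RegLoc.Homological

/-!
* finitely generated subcomodules over a Noetherian base, flat coalgebra;
* `M^* ⊗ A ≅ Hom(M, A)` for `M` finitely presented, `A` flat;
* duals of finite modules over regular rings of dimension `≤ 2` are projective;
* matrix corepresentations containing a given finite set.
-/

set_option autoImplicit false
set_option linter.style.haveILetI false
universe u
open scoped TensorProduct

noncomputable section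

namespace Groth.Agent.SubHopf

theorem exists_fg_subcomod {R : Type u} [CommRing R] [IsNoetherianRing R] {C : Type u}
    [AddCommGroup C] [Module R C] [Coalgebra R C] [Module.Flat R C] {V : Type u} [AddCommGroup V]
    [Module R V] [HopfRep.Comod R C V] (M : Submodule R V) (hM : M.FG) :
    ∃ W : Submodule R V, HopfRep.IsSubcomod (k := R) (A := C) W ∧ M ≤ W ∧ W.FG := by
  classical
  obtain ⟨s, rfl⟩ := hM
  choose S hS using fun m : V =>
    TensorProduct.exists_finset (HopfRep.Comod.coact (k := R) (A := C) m)
  let U : Submodule R V := Submodule.span R ((s.biUnion fun m => (S m).image Prod.fst : Finset V) : Set V)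
  let ρ : V →ₗ[R] V ⊗[R] C := HopfRep.Comod.coact (k := R) (A := C)
  let q := (LinearMap.range (U.subtype.rTensor C)).mkQ ∘ₗ ρ
  let W := LinearMap.ker q
  have hWmem : ∀ v, v ∈ W ↔ ρ v ∈ LinearMap.range (U.subtype.rTensor C) := fun v => by
    simp [W, q, Submodule.Quotient.mk_eq_zero]
  have hWU : W ≤ U := by
    intro v hv
    obtain ⟨z, hz⟩ := (hWmem v).mp hv
    have h := LinearMap.congr_fun (HopfRep.Comod.counit_comp (k := R) (A := C) (V := V)) v
    simp only [LinearMap.comp_apply, LinearMap.flip_apply, TensorProduct.mk_apply] at h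
    have key : ∀ z : U ⊗[R] C, TensorProduct.rid R V
        ((CoalgebraStruct.counit (R := R) (A := C)).lTensor V (U.subtype.rTensor C z)) ∈ U := by
      intro z
      induction z with
      | zero => simp
      | tmul a c =>
        rw [LinearMap.rTensor_tmul, LinearMap.lTensor_tmul, TensorProduct.rid_tmul]
        exact U.smul_mem _ a.2
      | add a b ha hb => simpa only [map_add] using U.add_mem ha hb
    have := key z
    rw [hz, h, TensorProduct.rid_tmul, one_smul] at this
    exact this
  refine ⟨W, ?_, ?_, ?_⟩
  · intro w hw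
    refine ((Module.Flat.rTensor_exact C (LinearMap.exact_subtype_ker_map q)) (ρ w)).mp ?_
    obtain ⟨z, hz⟩ := (hWmem w).mp hw
    have hc := LinearMap.congr_fun (HopfRep.Comod.coassoc (k := R) (A := C) (V := V)) w
    simp only [LinearMap.comp_apply, LinearEquiv.coe_coe] at hc
    rw [← LinearEquiv.eq_symm_apply] at hc
    show q.rTensor C (ρ w) = 0
    rw [show q.rTensor C = ((LinearMap.range (U.subtype.rTensor C)).mkQ.rTensor C) ∘ₗ ρ.rTensor C
      from LinearMap.rTensor_comp _ _ _, LinearMap.comp_apply]
    rw [show ρ.rTensor C (ρ w) = _ from hc,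
      show HopfRep.Comod.coact (k := R) (A := C) w = U.subtype.rTensor C z from hz.symm]
    clear hz hc
    induction z with
    | zero => simp
    | add a b ha hb => simp only [map_add, ha, hb, add_zero]
    | tmul a c =>
      rw [LinearMap.rTensor_tmul, LinearMap.lTensor_tmul]
      generalize CoalgebraStruct.comul (R := R) c = d
      induction d with
      | zero => simp
      | add x y hx hy => simp only [TensorProduct.tmul_add, map_add, hx, hy, add_zero]
      | tmul c₁ c₂ =>
        have hmem : (U.subtype a ⊗ₜ[R] c₁ : V ⊗[R] C) ∈ LinearMap.range (U.subtype.rTensor C) :=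
          ⟨a ⊗ₜ c₁, rfl⟩
        rw [TensorProduct.assoc_symm_tmul, LinearMap.rTensor_tmul, Submodule.mkQ_apply,
          (Submodule.Quotient.mk_eq_zero _).mpr hmem, TensorProduct.zero_tmul]
  · rw [Submodule.span_le]
    intro m hm
    rw [SetLike.mem_coe, hWmem]
    change HopfRep.Comod.coact (k := R) (A := C) m ∈ _
    rw [hS m]
    refine Submodule.sum_mem _ fun p hp => ?_
    have hpU : p.1 ∈ U := Submodule.subset_span (Finset.mem_coe.mpr
      (Finset.mem_biUnion.mpr ⟨m, Finset.mem_coe.mp hm, Finset.mem_image_of_mem _ hp⟩))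
    exact ⟨(⟨p.1, hpU⟩ : U) ⊗ₜ[R] p.2, rfl⟩
  · haveI : Module.Finite R U := Module.Finite.iff_fg.mpr (Submodule.fg_span (Finset.finite_toSet _))
    exact Submodule.FG.of_le (Submodule.fg_span (Finset.finite_toSet _)) hWU

theorem dualTensorHom_bijective_of_flat {R : Type u} [CommRing R] {M A : Type u} [AddCommGroup M]
    [Module R M] [AddCommGroup A] [Module R A] [Module.FinitePresentation R M] [Module.Flat R A] :
    Function.Bijective (dualTensorHom R M A) := by
  obtain ⟨n, K, e, hK⟩ := Module.FinitePresentation.exists_fin R M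
  let π : (Fin n → R) →ₗ[R] M := e.symm.toLinearMap ∘ₗ K.mkQ
  have hπ : Function.Surjective π := e.symm.surjective.comp K.mkQ_surjective
  haveI : Module.Finite R K := Module.Finite.iff_fg.mpr hK
  obtain ⟨b, p, hp⟩ := Module.Finite.exists_fin' R K
  let f : (Fin b → R) →ₗ[R] (Fin n → R) := K.subtype ∘ₗ p
  have hexact : Function.Exact f π := by
    intro x
    simp only [π, LinearMap.comp_apply, LinearEquiv.coe_coe, LinearEquiv.map_eq_zero_iff,
      Submodule.mkQ_apply, Submodule.Quotient.mk_eq_zero]
    constructor
    · intro hx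
      obtain ⟨y, hy⟩ := hp ⟨x, hx⟩
      exact ⟨y, congrArg Subtype.val hy⟩
    · rintro ⟨y, rfl⟩
      exact (p y).2
  have hd : Function.Exact π.dualMap f.dualMap := by
    intro φ
    constructor
    · intro h
      refine ⟨(LinearMap.range f).liftQ φ ?_ ∘ₗ
        (hexact.linearEquivOfSurjective hπ).symm.toLinearMap, ?_⟩
      · rintro _ ⟨y, rfl⟩
        exact LinearMap.congr_fun h y
      · refine LinearMap.ext fun x => ?_
        have h1 : (hexact.linearEquivOfSurjective hπ).symm (π x) = Submodule.Quotient.mk x :=
          (hexact.linearEquivOfSurjective hπ).symm_apply_eq.mpr rfl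
        simp [h1]
    · rintro ⟨ψ, rfl⟩
      ext y
      simp [hexact.apply_apply_eq_zero]
  have hdA := Module.Flat.rTensor_exact A hd
  have hπd : Function.Injective π.dualMap := LinearMap.dualMap_injective_of_surjective hπ
  have hπA : Function.Injective (π.dualMap.rTensor A) :=
    Module.Flat.rTensor_preserves_injective_linearMap _ hπd
  have hfree : ∀ m : ℕ, Function.Bijective (dualTensorHom R (Fin m → R) A) := fun m =>
    dualTensorHom_bijective
  have hnat : ∀ {X Y : Type u} [AddCommGroup X] [Module R X] [AddCommGroup Y] [Module R Y]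
      (g : X →ₗ[R] Y) (z : Module.Dual R Y ⊗[R] A),
      dualTensorHom R X A (g.dualMap.rTensor A z) = dualTensorHom R Y A z ∘ₗ g := by
    intro X Y _ _ _ _ g z
    induction z with
    | zero => simp
    | tmul φ a => ext x; simp
    | add a b ha hb => simp only [map_add, ha, hb, LinearMap.add_comp]
  constructor
  · refine (injective_iff_map_eq_zero _).mpr fun z hz => ?_
    apply hπA
    apply (hfree n).injective
    rw [hnat, hz, map_zero, map_zero, LinearMap.zero_comp]
  · intro h
    obtain ⟨w, hw⟩ := (hfree n).2 (h ∘ₗ π)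
    have h0 : f.dualMap.rTensor A w = 0 := by
      apply (hfree b).1
      rw [hnat, hw, map_zero, LinearMap.comp_assoc, hexact.linearMap_comp_eq_zero, LinearMap.comp_zero]
    obtain ⟨z, rfl⟩ := (hdA w).mp h0
    refine ⟨z, ?_⟩
    rw [hnat] at hw
    exact LinearMap.ext fun x => by
      obtain ⟨y, rfl⟩ := hπ x
      exact LinearMap.congr_fun hw y

theorem projective_ker_of_regularLocal {R : Type u} [CommRing R] [IsRegularLocalRing R]
    (hdim : ringKrullDim R ≤ 2) {F G : Type u} [AddCommGroup F] [Module R F] [AddCommGroup G]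
    [Module R G] [Module.Projective R F] [Module.Projective R G] (g : F →ₗ[R] G) :
    Module.Projective R (LinearMap.ker g) := by
  obtain ⟨d, hd⟩ : ∃ d : ℕ, ringKrullDim R = d := by
    have h1 : ringKrullDim R ≠ ⊤ := ringKrullDim_ne_top
    have h2 : ringKrullDim R ≠ ⊥ := ringKrullDim_ne_bot
    revert h1 h2
    generalize ringKrullDim R = x
    intro h1 h2
    cases x with
    | bot => exact absurd rfl h2
    | coe y => cases y with
      | top => exact absurd rfl h1
      | coe m => exact ⟨m, rfl⟩
  have hd2 : d ≤ 2 := by rw [hd] at hdim; exact_mod_cast hdim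
  have h2 := Groth.Agent.RegLoc.PD.pd_mono _ hd2
    (Groth.Agent.RegLoc.Homological.pd_le_dim hd (G ⧸ LinearMap.range g))
  have h1 := (Groth.Agent.RegLoc.PD.pd_shift _ (LinearMap.range g).mkQ_surjective 1).mp h2
  have h1' := Groth.Agent.RegLoc.PD.pd_congr
    (LinearEquiv.ofEq _ _ (Submodule.ker_mkQ (LinearMap.range g))) 1 h1
  have h0 := (Groth.Agent.RegLoc.PD.pd_shift g.rangeRestrict g.surjective_rangeRestrict 0).mp h1'
  have h0' := Groth.Agent.RegLoc.PD.pd_congr
    (LinearEquiv.ofEq _ _ (LinearMap.ker_rangeRestrict g)) 0 h0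
  exact (Groth.Agent.RegLoc.PD.pd_zero_iff _).mp h0'

theorem projective_ker {R : Type u} [CommRing R] [IsRegularRing R] (hdim : ringKrullDim R ≤ 2)
    {F G : Type u} [AddCommGroup F] [Module R F] [AddCommGroup G] [Module R G] [Module.Projective R F]
    [Module.Projective R G] [Module.Finite R F] (g : F →ₗ[R] G) :
    Module.Projective R (LinearMap.ker g) := by
  haveI : Module.Finite R (LinearMap.ker g) := Module.Finite.of_injective _ (LinearMap.ker g).injective_subtype
  haveI : Module.FinitePresentation R (LinearMap.ker g) := Module.finitePresentation_of_finite R _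
  haveI : Module.Flat R (LinearMap.ker g) := by
    refine Module.flat_of_localized_maximal _ fun P _ => ?_
    let RP := Localization.AtPrime P
    haveI : IsRegularLocalRing RP := IsRegularRing.isRegularLocalRing_localization P
    have hdP : ringKrullDim RP ≤ 2 := by
      rw [IsLocalization.AtPrime.ringKrullDim_eq_height P RP]
      exact (Ideal.height_le_ringKrullDim_of_ne_top ‹P.IsMaximal›.ne_top).trans hdim
    let K := LinearMap.ker g
    have hinj : Function.Injective (K.subtype.baseChange RP) :=
      Module.Flat.lTensor_preserves_injective_linearMap _ K.injective_subtype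
    have hex : Function.Exact (K.subtype.baseChange RP) (g.baseChange RP) :=
      Module.Flat.lTensor_exact RP (LinearMap.exact_subtype_ker_map g)
    haveI := projective_ker_of_regularLocal hdP (g.baseChange RP)
    let e : (RP ⊗[R] K) ≃ₗ[RP] LinearMap.ker (g.baseChange RP) :=
      (LinearEquiv.ofInjective _ hinj).trans (LinearEquiv.ofEq _ _ hex.linearMap_ker_eq.symm)
    haveI : Module.Projective RP (RP ⊗[R] K) := Module.Projective.of_equiv e.symm
    let mk := LocalizedModule.mkLinearMap P.primeCompl K
    have hBC : IsBaseChange RP mk := IsLocalizedModule.isBaseChange P.primeCompl RP mk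
    haveI : Module.Flat RP (LocalizedModule P.primeCompl K) := Module.Flat.of_linearEquiv hBC.equiv.symm
    exact Module.Flat.trans R RP _
  exact (Module.Flat.projective_of_finitePresentation)

theorem projective_dual {R : Type u} [CommRing R] [IsRegularRing R] (hdim : ringKrullDim R ≤ 2)
    {M : Type u} [AddCommGroup M] [Module R M] [Module.Finite R M] :
    Module.Projective R (Module.Dual R M) := by
  obtain ⟨a, π, hπ⟩ := Module.Finite.exists_fin' R M
  haveI : Module.Finite R (LinearMap.ker π) := Module.Finite.of_injective _ (LinearMap.ker π).injective_subtype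
  obtain ⟨b, p, hp⟩ := Module.Finite.exists_fin' R (LinearMap.ker π)
  let f : (Fin b → R) →ₗ[R] (Fin a → R) := (LinearMap.ker π).subtype ∘ₗ p
  have hr : LinearMap.range π.dualMap = LinearMap.ker f.dualMap := by
    rw [LinearMap.range_dualMap_eq_dualAnnihilator_ker_of_surjective π hπ, LinearMap.ker_dualMap_eq_dualAnnihilator_range,
      LinearMap.range_comp_of_range_eq_top _ (LinearMap.range_eq_top.mpr hp), Submodule.range_subtype]
  haveI := projective_ker hdim f.dualMap
  exact Module.Projective.of_equiv ((LinearEquiv.ofInjective π.dualMap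
    (LinearMap.dualMap_injective_of_surjective hπ)).trans (LinearEquiv.ofEq _ _ hr)).symm

section Hull

variable {R : Type u} [CommRing R] {A : Type u} [CommRing A] [HopfAlgebra R A]

set_option maxHeartbeats 1000000 in
theorem exists_corep [IsNoetherianRing R] [Module.Flat R A] (W : Submodule R A)
    (hW : HopfRep.IsSubcomod (k := R) (A := A) W) [Module.Finite R W]
    [Module.Projective R (Module.Dual R W)] :
    ∃ (d : ℕ) (a : Matrix (Fin d) (Fin d) A),
      (∀ i j, CoalgebraStruct.comul (R := R) (a i j) = ∑ l, a i l ⊗ₜ[R] a l j) ∧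
      (∀ i j, CoalgebraStruct.counit (R := R) (a i j) = if i = j then 1 else 0) ∧
      ∃ u : A, u * a.det = 1 ∧
        (W : Set A) ⊆ Algebra.adjoin R (Set.range (fun p : Fin d × Fin d => a p.1 p.2) ∪ {u}) := by
  classical
  haveI : Module.FinitePresentation R W := Module.finitePresentation_of_finite R _
  haveI : Module.Finite R (Module.Dual R W) := inferInstance
  obtain ⟨d, π, hπ⟩ := Module.Finite.exists_fin' R (Module.Dual R W)
  obtain ⟨s, hs⟩ := Module.projective_lifting_property π LinearMap.id hπ
  let φ : Fin d → Module.Dual R W := fun i => π (Pi.single i 1)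
  let ψ : Fin d → (Module.Dual R W →ₗ[R] R) := fun l => LinearMap.proj l ∘ₗ s
  have hφψ : ∀ f : Module.Dual R W, ∑ l, ψ l f • φ l = f := fun f => by
    have h := LinearMap.congr_fun hs f
    rw [LinearMap.comp_apply, LinearMap.id_apply, pi_eq_sum_univ' (s f), map_sum] at h
    simpa [φ, ψ] using h
  let ρ : W →ₗ[R] W ⊗[R] A := ComodSub.restrCoact (HopfRep.Comod.regular R A) W hW
  have hρ : ∀ w : W, W.subtype.rTensor A (ρ w) = Coalgebra.comul (R := R) (w : A) :=
    fun w => ComodSub.rTensor_subtype_restrCoact (HopfRep.Comod.regular R A) W hW w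
  have hcoassoc := (ComodSub.Comod.restr (HopfRep.Comod.regular R A) W hW).coassoc
  have hcounit := (ComodSub.Comod.restr (HopfRep.Comod.regular R A) W hW).counit_comp
  let slA : Module.Dual R W → (W ⊗[R] A →ₗ[R] A) := fun f =>
    (TensorProduct.lid R A).toLinearMap ∘ₗ f.rTensor A
  let c : Module.Dual R W → (W →ₗ[R] A) := fun f => slA f ∘ₗ ρ
  have hclin : ∀ (t : Fin d → R) (w : W), c (∑ m, t m • φ m) w = ∑ m, t m • c (φ m) w := by
    intro t w
    show slA _ (ρ w) = ∑ m, t m • slA (φ m) (ρ w)
    generalize ρ w = z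
    induction z with
    | zero => simp
    | tmul x y => simp [slA, Finset.sum_smul, smul_smul]
    | add x y hx hy => simp only [map_add, smul_add, Finset.sum_add_distrib, hx, hy]
  let θ := LinearEquiv.ofBijective (dualTensorHom R W A) dualTensorHom_bijective_of_flat
  let Φ : Matrix (Fin d) (Fin d) A := fun i l =>
    TensorProduct.lid R A ((ψ l).rTensor A (θ.symm (c (φ i))))
  have hexp : ∀ z : Module.Dual R W ⊗[R] A,
      ∑ l, φ l ⊗ₜ[R] TensorProduct.lid R A ((ψ l).rTensor A z) = z := by
    intro z
    induction z with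
    | zero => simp
    | add x y hx hy => simp only [map_add, TensorProduct.tmul_add, Finset.sum_add_distrib, hx, hy]
    | tmul f x =>
      simp only [LinearMap.rTensor_tmul, TensorProduct.lid_tmul, ← TensorProduct.smul_tmul,
        ← TensorProduct.sum_tmul, hφψ]
  have hc : ∀ i (w : W), c (φ i) w = ∑ l, φ l w • Φ i l := fun i w => by
    conv_lhs => rw [← θ.apply_symm_apply (c (φ i)), ← hexp (θ.symm (c (φ i)))]
    simp [θ, Φ]
  let P : Matrix (Fin d) (Fin d) R := fun i l => ψ l (φ i)
  have hPP : ∀ i j, ∑ l, P i l * P l j = P i j := fun i j => by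
    have h := congrArg (ψ j) (hφψ (φ i))
    simpa [P, smul_eq_mul] using h
  have hΦP : ∀ i j, ∑ l, P l j • Φ i l = Φ i j := fun i j => by
    have h := congrArg (fun z => TensorProduct.lid R A ((ψ j).rTensor A z)) (hexp (θ.symm (c (φ i))))
    simpa [P, Φ] using h
  have hPΦ : ∀ i j, ∑ m, P i m • Φ m j = Φ i j := fun i j => by
    have h : c (φ i) = ∑ m, P i m • c (φ m) := by
      conv_lhs => rw [← hφψ (φ i)]
      refine LinearMap.ext fun w => (hclin _ w).trans ?_
      simp [P]
    have h2 := congrArg (fun g => TensorProduct.lid R A ((ψ j).rTensor A (θ.symm g))) h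
    simp only [map_sum, map_smul] at h2
    exact h2.symm
  have hεΦ : ∀ i j, Coalgebra.counit (R := R) (Φ i j) = P i j := fun i j => by
    have h1 : ∑ l, Coalgebra.counit (R := R) (Φ i l) • φ l = φ i := by
      ext w
      have hh : Coalgebra.counit (R := R) (c (φ i) w) = φ i w := by
        have hw := LinearMap.congr_fun hcounit w
        have key : ∀ z : W ⊗[R] A, Coalgebra.counit (R := R) (slA (φ i) z) =
            φ i (TensorProduct.rid R W ((Coalgebra.counit (R := R) (A := A)).lTensor W z)) := by
          intro z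
          induction z with
          | zero => simp
          | tmul x y => simp [slA, mul_comm]
          | add x y hx hy => simp only [map_add, hx, hy]
        show Coalgebra.counit (R := R) (slA (φ i) (ρ w)) = _
        rw [key]
        simp only [LinearMap.comp_apply, LinearMap.flip_apply, TensorProduct.mk_apply] at hw
        exact (congrArg (fun z => φ i (TensorProduct.rid R W z)) hw).trans (by simp)
      rw [hc, map_sum] at hh
      simpa [mul_comm] using hh
    have h2 := congrArg (ψ j) h1
    rw [map_sum] at h2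
    simp only [map_smul, smul_eq_mul] at h2
    calc Coalgebra.counit (R := R) (Φ i j) = Coalgebra.counit (R := R) (∑ l, P l j • Φ i l) := by rw [hΦP]
      _ = P i j := by
        rw [map_sum]
        simpa [P, mul_comm] using h2
  have hΔΦ : ∀ i j, Coalgebra.comul (R := R) (Φ i j) = ∑ m, Φ i m ⊗ₜ[R] Φ m j := by
    let D : Fin d → Fin d → A ⊗[R] A := fun i l =>
      Coalgebra.comul (R := R) (Φ i l) - ∑ m, Φ i m ⊗ₜ[R] Φ m l
    have hD : ∀ i (w : W), ∑ l, φ l w • D i l = 0 := by
      intro i w
      have e1 : ∑ l, φ l w • Coalgebra.comul (R := R) (Φ i l) = Coalgebra.comul (R := R) (c (φ i) w) := by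
        simp [hc]
      have hw := LinearMap.congr_fun hcoassoc w
      simp only [LinearMap.comp_apply, LinearEquiv.coe_coe] at hw
      let T₁ : W ⊗[R] (A ⊗[R] A) →ₗ[R] A ⊗[R] A :=
        (TensorProduct.lid R (A ⊗[R] A)).toLinearMap ∘ₗ (φ i).rTensor (A ⊗[R] A)
      have k1 : ∀ z : W ⊗[R] A, T₁ ((Coalgebra.comul (R := R) (A := A)).lTensor W z) =
          Coalgebra.comul (R := R) (slA (φ i) z) := by
        intro z
        induction z with
        | zero => simp
        | tmul x y => simp [T₁, slA]
        | add x y hx hy => simp only [map_add, hx, hy]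
      have k2 : ∀ z : (W ⊗[R] A) ⊗[R] A, T₁ (TensorProduct.assoc R W A A z) =
          (slA (φ i)).rTensor A z := by
        intro z
        induction z with
        | zero => simp
        | tmul x y =>
          induction x with
          | zero => simp
          | tmul x₁ x₂ => simp [T₁, slA, TensorProduct.smul_tmul']
          | add a b ha hb => simp only [TensorProduct.add_tmul, map_add, ha, hb]
        | add x y hx hy => simp only [map_add, hx, hy]
      have k3 : ∀ z : W ⊗[R] A, (slA (φ i)).rTensor A (ρ.rTensor A z) =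
          ∑ m, Φ i m ⊗ₜ[R] slA (φ m) z := by
        intro z
        induction z with
        | zero => simp
        | tmul x y =>
          rw [LinearMap.rTensor_tmul, LinearMap.rTensor_tmul]
          change c (φ i) x ⊗ₜ[R] y = _
          simp [hc, slA, TensorProduct.sum_tmul, TensorProduct.smul_tmul]
        | add x y hx hy => simp only [map_add, TensorProduct.tmul_add, Finset.sum_add_distrib, hx, hy]
      have e2 : Coalgebra.comul (R := R) (c (φ i) w) = ∑ m, Φ i m ⊗ₜ[R] c (φ m) w := by
        calc Coalgebra.comul (R := R) (c (φ i) w)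
            = T₁ ((Coalgebra.comul (R := R) (A := A)).lTensor W (ρ w)) := (k1 _).symm
          _ = T₁ (TensorProduct.assoc R W A A (ρ.rTensor A (ρ w))) := congrArg T₁ hw.symm
          _ = _ := (k2 _).trans (k3 _)
      simp only [D, smul_sub, Finset.sum_sub_distrib]
      rw [e1, e2, sub_eq_zero]
      simp only [hc, TensorProduct.tmul_sum, Finset.smul_sum, TensorProduct.tmul_smul]
      rw [Finset.sum_comm]
    intro i j
    have hz : ∑ l, φ l ⊗ₜ[R] D i l = 0 := by
      apply (dualTensorHom_bijective_of_flat (R := R) (M := W) (A := A ⊗[R] A)).1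
      rw [map_zero, map_sum]
      ext w
      simpa using hD i w
    have h2 := congrArg (fun z => TensorProduct.lid R (A ⊗[R] A) ((ψ j).rTensor _ z)) hz
    simp only [map_sum, LinearMap.rTensor_tmul, TensorProduct.lid_tmul, map_zero] at h2
    have h3 : ∑ l, P l j • Coalgebra.comul (R := R) (Φ i l) =
        ∑ l, P l j • ∑ m, Φ i m ⊗ₜ[R] Φ m l := by
      rw [← sub_eq_zero, ← Finset.sum_sub_distrib]
      simpa [D, smul_sub, P] using h2
    rw [← hΦP i j, map_sum]
    simp only [map_smul]
    rw [h3]
    simp only [Finset.smul_sum, ← TensorProduct.tmul_smul]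
    rw [Finset.sum_comm]
    simp only [← TensorProduct.tmul_sum, hΦP]
  let Q : Matrix (Fin d) (Fin d) R := fun i l => (if i = l then 1 else 0) - P i l
  let a : Matrix (Fin d) (Fin d) A := fun i l => Φ i l + algebraMap R A (Q i l)
  have hΦQ : ∀ i j, ∑ l, Q l j • Φ i l = 0 := fun i j => by
    simp only [Q, sub_smul, Finset.sum_sub_distrib, hΦP, ite_smul, one_smul, zero_smul,
      Finset.sum_ite_eq', Finset.mem_univ, if_true, sub_self]
  have hQΦ : ∀ i j, ∑ m, Q i m • Φ m j = 0 := fun i j => by
    simp only [Q, sub_smul, Finset.sum_sub_distrib, hPΦ, ite_smul, one_smul, zero_smul,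
      Finset.sum_ite_eq, Finset.mem_univ, if_true, sub_self]
  have hQQ : ∀ i j, ∑ l, Q i l * Q l j = Q i j := fun i j => by
    simp only [Q, sub_mul, mul_sub, Finset.sum_sub_distrib, hPP, ite_mul, mul_ite, _root_.one_mul,
      _root_.mul_one, zero_mul, mul_zero, Finset.sum_ite_eq, Finset.sum_ite_eq', Finset.mem_univ, if_true]
    ring
  have hcomul : ∀ i j, Coalgebra.comul (R := R) (a i j) = ∑ l, a i l ⊗ₜ[R] a l j := fun i j => by
    have h1 : ∀ l, a i l ⊗ₜ[R] a l j = Φ i l ⊗ₜ[R] Φ l j + (Q l j • Φ i l) ⊗ₜ[R] (1 : A) +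
        (1 : A) ⊗ₜ[R] (Q i l • Φ l j) + (Q i l * Q l j) • ((1 : A) ⊗ₜ[R] (1 : A)) := fun l => by
      simp only [a, TensorProduct.add_tmul, TensorProduct.tmul_add, Algebra.algebraMap_eq_smul_one,
        TensorProduct.smul_tmul', TensorProduct.tmul_smul, smul_smul, smul_add]
      rw [mul_comm (Q i l)]
      abel
    simp only [h1, Finset.sum_add_distrib, ← TensorProduct.sum_tmul, ← TensorProduct.tmul_sum,
      hΦQ, hQΦ, TensorProduct.zero_tmul, TensorProduct.tmul_zero, add_zero, ← Finset.sum_smul, hQQ]
    simp only [a, map_add, hΔΦ, Algebra.algebraMap_eq_smul_one, map_smul, Bialgebra.comul_one,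
      Algebra.TensorProduct.one_def]
  have hcounit' : ∀ i j, Coalgebra.counit (R := R) (a i j) = if i = j then 1 else 0 := fun i j => by
    by_cases h : i = j <;> simp [a, hεΦ, Q, h]
  refine ⟨d, a, hcomul, hcounit', ?_⟩
  let S : A →ₐ[R] A := HopfAlgebra.antipodeAlgHom R A
  have hinv : a * a.map S = 1 := by
    ext i j
    have h := HopfAlgebra.mul_antipode_lTensor_comul_apply (R := R) (a i j)
    rw [hcomul, hcounit'] at h
    simp only [map_sum, LinearMap.lTensor_tmul, LinearMap.mul'_apply] at h
    rw [Matrix.mul_apply, Matrix.one_apply]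
    refine Eq.trans ?_ (h.trans ?_)
    · rfl
    · split <;> simp
  refine ⟨(a.map S).det, by rw [mul_comm, ← Matrix.det_mul, hinv, Matrix.det_one], ?_⟩
  intro v hv
  let e : Module.Dual R W := (Coalgebra.counit (R := R) (A := A)) ∘ₗ W.subtype
  have he : c e ⟨v, hv⟩ = v := by
    have key : ∀ z : W ⊗[R] A, slA e z =
        TensorProduct.lid R A ((Coalgebra.counit (R := R) (A := A)).rTensor A (W.subtype.rTensor A z)) := by
      intro z
      induction z with
      | zero => simp
      | tmul x y => simp [slA, e]
      | add x y hx hy => simp only [map_add, hx, hy]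
    show slA e (ρ ⟨v, hv⟩) = v
    rw [key, hρ, Coalgebra.rTensor_counit_comul, TensorProduct.lid_tmul, one_smul]
  have hv' : v = ∑ i, ψ i e • ∑ l, φ l ⟨v, hv⟩ • Φ i l := by
    conv_lhs => rw [← he, ← hφψ e, hclin]
    simp only [hc]
  rw [hv']
  refine Subalgebra.sum_mem _ fun i _ => Subalgebra.smul_mem _ (Subalgebra.sum_mem _ fun l _ =>
    Subalgebra.smul_mem _ ?_ _) _
  rw [show Φ i l = a i l - algebraMap R A (Q i l) by simp [a]]
  exact sub_mem (Algebra.subset_adjoin (Or.inl ⟨(i, l), rfl⟩)) (Subalgebra.algebraMap_mem _ _)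

end Hull

end Groth.Agent.SubHopf
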